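import Groth.Agent.EGA43.Multisection.Branch
import Groth.Agent.Props12.KerReduced
import Groth.Agent.LocImm12.ZMT

/-!
# EGA IV 14.5.10: finite surjective covers with local quasi-sections
-/

set_option autoImplicit false
set_option backward.isDefEq.respectTransparency false
set_option linter.style.haveILetI false

universe u

open CategoryTheory CategoryTheory.Limits AlgebraicGeometry TopologicalSpace

namespace Groth.Agent.EGA43.Multisection

open Groth.Agent

/-- `g` has local lifts along `f`. -/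
def HasLifts {X Y Z : Scheme.{u}} (f : X ⟶ Y) (g : Z ⟶ Y) : Prop :=
  ∀ z, ∃ U : Z.Opens, z ∈ U ∧ ∃ s : (U : Scheme.{u}) ⟶ X, s ≫ f = U.ι ≫ g

theorem exists_section_of_lift {X Y Z W : Scheme.{u}} (f : X ⟶ Y) (g : Z ⟶ Y) (j : W ⟶ Z) [IsOpenImmersion j]
    (s : W ⟶ X) (hs : s ≫ f = j ≫ g) :
    ∃ s' : (j.opensRange : Scheme.{u}) ⟶ X, s' ≫ f = j.opensRange.ι ≫ g := by
  refine ⟨IsOpenImmersion.lift j j.opensRange.ι (by rw [Scheme.Opens.range_ι]; rfl) ≫ s, ?_⟩
  rw [Category.assoc, hs, IsOpenImmersion.lift_fac_assoc]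

/-- The case of a Noetherian domain. -/
theorem exists_lifts_domain {A : Type u} [CommRing A] [IsDomain A] [IsNoetherianRing A] {X : Scheme.{u}}
    (f : X ⟶ Spec (CommRingCat.of A)) [LocallyOfFiniteType f] [UniversallyOpen f] [Surjective f] :
    ∃ (Z : Scheme.{u}) (g : Z ⟶ Spec (CommRingCat.of A)), IsFinite g ∧ Surjective g ∧ HasLifts f g := by
  classical
  let Ω := AlgebraicClosure (FractionRing A)
  haveI : FaithfulSMul A Ω := (faithfulSMul_iff_algebraMap_injective A Ω).2 (by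
    rw [IsScalarTower.algebraMap_eq A (FractionRing A) Ω, RingHom.coe_comp]
    exact (algebraMap (FractionRing A) Ω).injective.comp (IsFractionRing.injective A (FractionRing A)))
  let O := integralClosure A Ω
  choose B hBO hBfg b hb s hs using fun P : PrimeSpectrum O => exists_lift_at f (Ω := Ω) P.asIdeal
  obtain ⟨t, ht⟩ := (isCompact_univ (X := PrimeSpectrum O)).elim_finite_subcover
    (fun P => (PrimeSpectrum.basicOpen (Subalgebra.inclusion (hBO P) (b P)) : Set (PrimeSpectrum O)))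
    (fun P => PrimeSpectrum.isOpen_basicOpen) fun P _ => Set.mem_iUnion.2 ⟨P, hb P⟩
  let C : Subalgebra A Ω := t.sup B
  have hCO : C ≤ O := Finset.sup_le fun P _ => hBO P
  have hCfg : C.FG := by
    refine Finset.sup_induction Subalgebra.fg_bot (fun a ha b hb => ha.sup hb) fun P _ => hBfg P
  haveI : Algebra.FiniteType A C := (Subalgebra.fg_iff_finiteType C).1 hCfg
  haveI : Algebra.IsIntegral A C :=
    ⟨fun c => (isIntegral_algHom_iff C.val Subtype.val_injective).1 (hCO c.2)⟩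
  haveI : Module.Finite A C := Algebra.IsIntegral.finite
  have hinjA : Function.Injective (algebraMap A C) := fun u v huv =>
    FaithfulSMul.algebraMap_injective A Ω (congrArg Subtype.val huv)
  refine ⟨Spec (CommRingCat.of C), toBase A C, ?_, ⟨fun p => ?_⟩, fun q => ?_⟩
  · exact (IsFinite.SpecMap_iff _).2 (RingHom.finite_algebraMap.2 inferInstance)
  · obtain ⟨Q, -, hQ, hc⟩ := Ideal.exists_ideal_over_prime_of_isIntegral (p : PrimeSpectrum A).asIdeal (⊥ : Ideal C)
      (by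
        intro u hu
        have : u = 0 := hinjA (by rw [map_zero]; exact (Submodule.mem_bot C).1 hu)
        rw [this]; exact zero_mem _)
    exact ⟨(⟨Q, hQ⟩ : PrimeSpectrum C), PrimeSpectrum.ext hc⟩
  obtain ⟨P, hP⟩ : ∃ P : PrimeSpectrum O, PrimeSpectrum.comap (Subalgebra.inclusion hCO).toRingHom P = q := by
    letI : Algebra C O := (Subalgebra.inclusion hCO).toRingHom.toAlgebra
    haveI : IsScalarTower A C O := IsScalarTower.of_algebraMap_eq fun a => rfl
    haveI : Algebra.IsIntegral C O := Algebra.IsIntegral.tower_top A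
    obtain ⟨Q, -, hQ, hc⟩ := Ideal.exists_ideal_over_prime_of_isIntegral (q : PrimeSpectrum C).asIdeal (⊥ : Ideal O)
      (by
        intro u hu
        have : u = 0 := Subalgebra.inclusion_injective hCO
          (by rw [map_zero]; exact (Submodule.mem_bot O).1 hu)
        rw [this]; exact zero_mem _)
    exact ⟨⟨Q, hQ⟩, PrimeSpectrum.ext hc⟩
  obtain ⟨P₀, hP₀, hPmem⟩ := Set.mem_iUnion₂.1 (ht (Set.mem_univ P))
  have hle : B P₀ ≤ C := Finset.le_sup hP₀
  let b' : C := Subalgebra.inclusion hle (b P₀)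
  let j : Spec (CommRingCat.of (Localization.Away b')) ⟶ Spec (CommRingCat.of C) :=
    Spec.map (CommRingCat.ofHom (algebraMap C (Localization.Away b')))
  haveI : IsOpenImmersion j := IsOpenImmersion.of_isLocalization b'
  have hq : q ∈ j.opensRange := by
    have h1 : (q : PrimeSpectrum C) ∈ PrimeSpectrum.basicOpen b' := by
      rw [← hP]
      exact hPmem
    exact (PrimeSpectrum.localization_away_comap_range (Localization.Away b') b').ge h1
  have hu : IsUnit (((algebraMap C (Localization.Away b')).comp (Subalgebra.inclusion hle).toRingHom) (b P₀)) :=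
    IsLocalization.Away.algebraMap_isUnit b'
  let μ : Localization.Away (b P₀) →+* Localization.Away b' := IsLocalization.Away.lift (b P₀) hu
  refine ⟨j.opensRange, hq, exists_section_of_lift f _ j (Spec.map (CommRingCat.ofHom μ) ≫ s P₀) ?_⟩
  rw [Category.assoc, hs P₀]
  simp only [j, toBase, ← Spec.map_comp]
  congr 1
  refine CommRingCat.hom_ext (RingHom.ext fun a => ?_)
  show μ (algebraMap A (Localization.Away (b P₀)) a) =
    algebraMap C (Localization.Away b') (algebraMap A C a)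
  rw [IsScalarTower.algebraMap_apply A (B P₀) (Localization.Away (b P₀))]
  exact IsLocalization.Away.lift_eq (b P₀) hu _

/-- Finitely many finite morphisms with the same image are dominated by one. -/
theorem exists_dominating {Y : Scheme.{u}} {ι : Type*} (s : Finset ι) (Z : ι → Scheme.{u})
    (g : ∀ i, Z i ⟶ Y) (c : Set Y) (hc : IsClosed c) (hf : ∀ i ∈ s, IsFinite (g i))
    (hr : ∀ i ∈ s, Set.range (g i) = c) :
    ∃ (W : Scheme.{u}) (h : W ⟶ Y), IsFinite h ∧ Set.range h = c ∧ ∀ i ∈ s, ∃ m : W ⟶ Z i, m ≫ g i = h := by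
  classical
  induction s using Finset.induction_on with
  | empty =>
    let I := Scheme.IdealSheafData.vanishingIdeal (⟨c, hc⟩ : Closeds Y)
    refine ⟨I.subscheme, I.subschemeι, inferInstance, ?_, by simp⟩
    rw [Scheme.IdealSheafData.range_subschemeι]
    exact Scheme.IdealSheafData.coe_support_vanishingIdeal _
  | insert a s has ih =>
    obtain ⟨W, h, hh, hrange, hm⟩ := ih (fun i hi => hf i (Finset.mem_insert_of_mem hi))
      (fun i hi => hr i (Finset.mem_insert_of_mem hi))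
    haveI := hh
    haveI := hf a (Finset.mem_insert_self a s)
    haveI : IsFinite (pullback.fst (g a) h) := MorphismProperty.pullback_fst _ _ hh
    refine ⟨pullback (g a) h, pullback.fst (g a) h ≫ g a, inferInstance, ?_, fun i hi => ?_⟩
    · refine Set.Subset.antisymm ?_ fun y hy => ?_
      · rintro _ ⟨w, rfl⟩
        rw [← hr a (Finset.mem_insert_self a s), Scheme.Hom.comp_apply]
        exact ⟨_, rfl⟩
      · obtain ⟨z, hz⟩ := (hr a (Finset.mem_insert_self a s)).ge hy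
        obtain ⟨w, hw⟩ := hrange.ge hy
        obtain ⟨v, hv, -⟩ := Scheme.Pullback.exists_preimage_pullback (f := g a) (g := h) z w (hz.trans hw.symm)
        exact ⟨v, by rw [Scheme.Hom.comp_apply, hv, hz]⟩
    · rcases Finset.mem_insert.1 hi with rfl | hi
      · exact ⟨pullback.fst _ _, rfl⟩
      · obtain ⟨m, hm'⟩ := hm i hi
        exact ⟨pullback.snd _ _ ≫ m, by rw [Category.assoc, hm', pullback.condition]⟩

/-- A finite morphism onto an irreducible closed set with lifts over an affine open. -/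
theorem exists_piece {X Y : Scheme.{u}} [IsNoetherian Y] (f : X ⟶ Y) [LocallyOfFiniteType f]
    [UniversallyOpen f] [Surjective f] (c : Set Y) (hc : IsClosed c) (hirr : IsIrreducible c)
    (V : Y.Opens) (hV : IsAffineOpen V) (hne : (c ∩ V).Nonempty) :
    ∃ (Z : Scheme.{u}) (g : Z ⟶ Y), IsFinite g ∧ Set.range g = c ∧
      ∀ z, g z ∈ V → ∃ U : Z.Opens, z ∈ U ∧ ∃ s : (U : Scheme.{u}) ⟶ X, s ≫ f = U.ι ≫ g := by
  let I := Scheme.IdealSheafData.vanishingIdeal (⟨c, hc⟩ : Closeds Y)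
  let i := I.subschemeι
  have hi : Set.range i = c := by
    rw [Scheme.IdealSheafData.range_subschemeι]
    exact Scheme.IdealSheafData.coe_support_vanishingIdeal _
  haveI : IsReduced I.subscheme := Props12.isReduced_subscheme_vanishingIdeal _
  haveI : IrreducibleSpace I.subscheme := by
    have h1 : IsIrreducible (Set.univ : Set I.subscheme) := by
      refine ⟨?_, ?_⟩
      · obtain ⟨y, hy, -⟩ := hne
        obtain ⟨z, -⟩ := hi.ge hy
        exact ⟨z, trivial⟩
      · intro u v hu hv ⟨z, _, hzu⟩ ⟨w, _, hwv⟩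
        obtain ⟨u', hu', rfl⟩ := i.isEmbedding.isInducing.isOpen_iff.1 hu
        obtain ⟨v', hv', rfl⟩ := i.isEmbedding.isInducing.isOpen_iff.1 hv
        obtain ⟨y, hy, hyu, hyv⟩ := hirr.2 u' v' hu' hv' ⟨i z, hi.le ⟨z, rfl⟩, hzu⟩ ⟨i w, hi.le ⟨w, rfl⟩, hwv⟩
        obtain ⟨x, rfl⟩ := hi.ge hy
        exact ⟨x, trivial, hyu, hyv⟩
    exact (irreducibleSpace_def _).2 h1
  haveI : AlgebraicGeometry.IsIntegral I.subscheme := isIntegral_of_irreducibleSpace_of_isReduced _
  let V' : I.subscheme.Opens := i ⁻¹ᵁ V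
  have hV' : IsAffineOpen V' := hV.preimage i
  haveI : Nonempty V' := by
    obtain ⟨y, hy, hyV⟩ := hne
    obtain ⟨z, hz⟩ := hi.ge hy
    exact ⟨⟨z, show i z ∈ V by rw [hz]; exact hyV⟩⟩
  let A : CommRingCat.{u} := Γ(I.subscheme, V')
  haveI : IsDomain A := inferInstanceAs (IsDomain Γ(I.subscheme, V'))
  haveI : IsLocallyNoetherian I.subscheme := LocallyOfFiniteType.isLocallyNoetherian i
  haveI : IsNoetherianRing A := IsLocallyNoetherian.component_noetherian ⟨V', hV'⟩
  let φ₀ : Spec A ⟶ (V : Scheme.{u}) := hV'.isoSpec.inv ≫ (i ∣_ V)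
  haveI : IsClosedImmersion (i ∣_ V) :=
    MorphismProperty.of_isPullback (isPullback_morphismRestrict i V).flip inferInstance
  haveI : IsClosedImmersion φ₀ := inferInstance
  let φ := φ₀ ≫ V.ι
  have hφr : Set.range φ = c ∩ V := by
    have h1 : φ = hV'.fromSpec ≫ i := by
      simp only [φ, φ₀, Category.assoc, morphismRestrict_ι, IsAffineOpen.isoSpec_inv_ι_assoc]
      rfl
    rw [h1, Scheme.Hom.comp_base, TopCat.coe_comp, Set.range_comp, hV'.range_fromSpec]
    show i '' (i ⁻¹' (V : Set Y)) = _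
    rw [Set.image_preimage_eq_inter_range, hi, Set.inter_comm]
  let fA := pullback.snd f φ
  haveI : LocallyOfFiniteType fA := MorphismProperty.pullback_snd _ _ ‹_›
  haveI : UniversallyOpen fA := MorphismProperty.pullback_snd _ _ ‹_›
  haveI : Surjective fA := MorphismProperty.pullback_snd _ _ ‹_›
  obtain ⟨Z₀, g₀, hg₀, hs₀, hl₀⟩ := exists_lifts_domain (A := A) fA
  haveI := hg₀
  haveI := hs₀
  let a : Z₀ ⟶ (V : Scheme.{u}) := g₀ ≫ φ₀
  haveI : IsFinite a := inferInstance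
  haveI : QuasiCompact V.ι := inferInstance
  haveI : LocallyQuasiFinite (a ≫ V.ι) := inferInstance
  haveI : LocallyOfFiniteType (a ≫ V.ι) := inferInstance
  haveI : IsSeparated (a ≫ V.ι) := inferInstance
  haveI : QuasiCompact (a ≫ V.ι) := inferInstance
  obtain ⟨T, j, π, hj, hjqc, hπ, hjπ⟩ := LocImm12.exists_openImmersion_finite (a ≫ V.ι)
  haveI := hj
  haveI := hπ
  -- over `V` the image of `j` is closed
  let j₁ : Z₀ ⟶ (π ⁻¹ᵁ V : Scheme.{u}) := IsOpenImmersion.lift (π ⁻¹ᵁ V).ι j (by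
    rw [Scheme.Opens.range_ι]
    rintro _ ⟨z, rfl⟩
    show π (j z) ∈ V
    rw [← Scheme.Hom.comp_apply, hjπ, Scheme.Hom.comp_apply]
    exact (a z).2)
  have hj₁ : j₁ ≫ (π ∣_ V) = a := by
    rw [← cancel_mono V.ι, Category.assoc, morphismRestrict_ι, IsOpenImmersion.lift_fac_assoc, hjπ]
  haveI : IsFinite (π ∣_ V) := MorphismProperty.of_isPullback (isPullback_morphismRestrict π V).flip hπ
  haveI : IsFinite j₁ := by
    haveI : IsFinite (j₁ ≫ (π ∣_ V)) := by rw [hj₁]; infer_instance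
    exact IsFinite.of_comp j₁ (π ∣_ V)
  have hclV : closure (Set.range j) ∩ π ⁻¹' (V : Set Y) ⊆ Set.range j := by
    rintro w ⟨hw, hwV⟩
    have h2 : (⟨w, hwV⟩ : (π ⁻¹ᵁ V : Scheme.{u})) ∈ closure (Set.range j₁) := by
      rw [(π ⁻¹ᵁ V).ι.isEmbedding.closure_eq_preimage_closure_image, ← Set.range_comp,
        ← TopCat.coe_comp, ← Scheme.Hom.comp_base, IsOpenImmersion.lift_fac]
      exact hw
    rw [j₁.isClosedMap.isClosed_range.closure_eq] at h2
    obtain ⟨z, hz⟩ := h2
    refine ⟨z, ?_⟩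
    have h3 := congrArg (fun v => (π ⁻¹ᵁ V).ι v) hz
    simp only at h3
    rw [← Scheme.Hom.comp_apply, IsOpenImmersion.lift_fac] at h3
    exact h3
  let J := Scheme.IdealSheafData.vanishingIdeal (⟨closure (Set.range j), isClosed_closure⟩ : Closeds T)
  let κ := J.subschemeι
  have hκ : Set.range κ = closure (Set.range j) := by
    rw [Scheme.IdealSheafData.range_subschemeι]
    exact Scheme.IdealSheafData.coe_support_vanishingIdeal _
  refine ⟨J.subscheme, κ ≫ π, inferInstance, ?_, fun z hz => ?_⟩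
  · rw [Scheme.Hom.comp_base, TopCat.coe_comp, Set.range_comp, hκ]
    have hgr : Set.range (j ≫ π) = c ∩ V := by
      rw [hjπ, ← hφr]
      show Set.range ((g₀ ≫ φ₀) ≫ V.ι) = _
      rw [Category.assoc, Scheme.Hom.comp_base, TopCat.coe_comp,
        Function.Surjective.range_comp g₀.surjective]
      rfl
    rw [Scheme.Hom.comp_base, TopCat.coe_comp, Set.range_comp] at hgr
    rw [← π.isClosedMap.closure_image_eq_of_continuous π.continuous, hgr]
    refine Set.Subset.antisymm (closure_minimal Set.inter_subset_left hc) ?_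
    exact subset_closure_inter_of_isPreirreducible_of_isOpen hirr.2 V.isOpen hne
  have hzj : κ z ∈ Set.range j := hclV ⟨hκ.le ⟨z, rfl⟩, by rw [Scheme.Hom.comp_apply] at hz; exact hz⟩
  let U₀ : J.subscheme.Opens := κ ⁻¹ᵁ j.opensRange
  let l : (U₀ : Scheme.{u}) ⟶ Z₀ := IsOpenImmersion.lift j (U₀.ι ≫ κ) (by
    rintro _ ⟨w, rfl⟩
    rw [Scheme.Hom.comp_apply]
    exact w.2)
  obtain ⟨U₁, hzU₁, s, hs⟩ := hl₀ (l ⟨z, hzj⟩)
  let U₂ : (U₀ : Scheme.{u}).Opens := l ⁻¹ᵁ U₁
  let j₂ : (U₂ : Scheme.{u}) ⟶ J.subscheme := U₂.ι ≫ U₀.ι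
  have hz2 : z ∈ j₂.opensRange := ⟨⟨⟨z, hzj⟩, hzU₁⟩, rfl⟩
  refine ⟨j₂.opensRange, hz2, exists_section_of_lift f _ j₂ ((l ∣_ U₁) ≫ s ≫ pullback.fst f φ) ?_⟩
  calc ((l ∣_ U₁) ≫ s ≫ pullback.fst f φ) ≫ f = ((l ∣_ U₁) ≫ U₁.ι) ≫ g₀ ≫ φ := by
        simp only [Category.assoc, pullback.condition]
        rw [reassoc_of% hs]
    _ = U₂.ι ≫ l ≫ j ≫ π := by
        rw [morphismRestrict_ι, Category.assoc, hjπ]
        simp [a, φ, U₂]
    _ = j₂ ≫ κ ≫ π := by
        rw [IsOpenImmersion.lift_fac_assoc]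
        simp [j₂]

theorem exists_lifts_union {X Y : Scheme.{u}} [IsNoetherian Y] (f : X ⟶ Y) [LocallyOfFiniteType f]
    [UniversallyOpen f] [Surjective f] (s : Finset (Set Y))
    (hs : ∀ c ∈ s, IsClosed c ∧ IsIrreducible c) :
    ∃ (Z : Scheme.{u}) (g : Z ⟶ Y), IsFinite g ∧ Set.range g = ⋃ c ∈ s, c ∧ HasLifts f g := by
  classical
  induction s using Finset.induction_on with
  | empty =>
    let I := Scheme.IdealSheafData.vanishingIdeal (⟨∅, isClosed_empty⟩ : Closeds Y)
    have h : Set.range I.subschemeι = ∅ := by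
      rw [Scheme.IdealSheafData.range_subschemeι]
      exact Scheme.IdealSheafData.coe_support_vanishingIdeal _
    refine ⟨I.subscheme, I.subschemeι, inferInstance, by rw [h]; simp, fun z => ?_⟩
    exact absurd (h.le ⟨z, rfl⟩) (Set.notMem_empty _)
  | insert c s hcs ih =>
    obtain ⟨Z, g, hg, hr, hl⟩ := ih fun d hd => hs d (Finset.mem_insert_of_mem hd)
    obtain ⟨hc, hirr⟩ := hs c (Finset.mem_insert_self c s)
    obtain ⟨t, ht⟩ := (isCompact_univ (X := ↥Y)).elim_finite_subcover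
      (fun V : Y.affineOpens => (V.1 : Set Y)) (fun V => V.1.isOpen)
      (fun y _ => by
        obtain ⟨V, hV, hy, -⟩ := exists_isAffineOpen_mem_and_subset (x := y) (U := ⊤) trivial
        exact Set.mem_iUnion.2 ⟨⟨V, hV⟩, hy⟩)
    let t' : Finset Y.affineOpens := t.filter fun V => (c ∩ V.1).Nonempty
    choose P gP hgP hrP hlP using fun V : {V : Y.affineOpens // (c ∩ V.1).Nonempty} =>
      exists_piece f c hc hirr V.1.1 V.1.2 V.2
    obtain ⟨W, h, hh, hrW, hm⟩ := exists_dominating (t'.subtype fun V => (c ∩ V.1).Nonempty) P gP c hc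
      (fun V _ => hgP V) (fun V _ => hrP V)
    haveI := hg
    haveI := hh
    refine ⟨W ⨿ Z, coprod.desc h g, inferInstance, ?_, fun w => ?_⟩
    · refine Set.Subset.antisymm ?_ ?_
      · rintro _ ⟨w, rfl⟩
        obtain ⟨(v | v), rfl⟩ := (coprodMk W Z).surjective w
        · rw [coprodMk_inl, ← Scheme.Hom.comp_apply, coprod.inl_desc]
          exact Set.mem_biUnion (Finset.mem_insert_self c s) (hrW.le ⟨v, rfl⟩)
        · rw [coprodMk_inr, ← Scheme.Hom.comp_apply, coprod.inr_desc]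
          obtain ⟨d, hd, hvd⟩ := Set.mem_iUnion₂.1 (hr.le ⟨v, rfl⟩)
          exact Set.mem_biUnion (Finset.mem_insert_of_mem hd) hvd
      · intro y hy
        obtain ⟨d, hd, hyd⟩ := Set.mem_iUnion₂.1 hy
        rcases Finset.mem_insert.1 hd with rfl | hd
        · obtain ⟨v, rfl⟩ := hrW.ge hyd
          exact ⟨(coprod.inl : W ⟶ W ⨿ Z) v, by rw [← Scheme.Hom.comp_apply, coprod.inl_desc]⟩
        · obtain ⟨v, rfl⟩ := hr.ge (Set.mem_biUnion hd hyd)
          exact ⟨(coprod.inr : Z ⟶ W ⨿ Z) v, by rw [← Scheme.Hom.comp_apply, coprod.inr_desc]⟩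
    obtain ⟨(v | v), rfl⟩ := (coprodMk W Z).surjective w
    · obtain ⟨V, hVt, hvV⟩ := Set.mem_iUnion₂.1 (ht (Set.mem_univ (h v)))
      have hne : (c ∩ V.1).Nonempty := ⟨h v, hrW.le ⟨v, rfl⟩, hvV⟩
      obtain ⟨m, hm'⟩ := hm ⟨V, hne⟩ (Finset.mem_subtype.2 (Finset.mem_filter.2 ⟨hVt, hne⟩))
      obtain ⟨U, hU, σ, hσ⟩ := hlP ⟨V, hne⟩ (m v) (by rw [← Scheme.Hom.comp_apply, hm']; exact hvV)
      let j₂ : (m ⁻¹ᵁ U : Scheme.{u}) ⟶ W ⨿ Z := (m ⁻¹ᵁ U).ι ≫ coprod.inl
      refine ⟨j₂.opensRange, ⟨⟨v, hU⟩, ?_⟩, exists_section_of_lift f _ j₂ ((m ∣_ U) ≫ σ) ?_⟩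
      · rw [coprodMk_inl]; rfl
      · rw [Category.assoc, hσ, morphismRestrict_ι_assoc, hm']
        simp [j₂]
    · obtain ⟨U, hU, σ, hσ⟩ := hl v
      let j₂ : (U : Scheme.{u}) ⟶ W ⨿ Z := U.ι ≫ coprod.inr
      refine ⟨j₂.opensRange, ⟨⟨v, hU⟩, ?_⟩, exists_section_of_lift f _ j₂ σ ?_⟩
      · rw [coprodMk_inr]; rfl
      · rw [hσ]
        simp [j₂]

/-- **EGA IV 14.5.10**. -/
theorem exists_finite_surjective_lifts {X Y : Scheme.{u}} [IsNoetherian Y] (f : X ⟶ Y)
    [LocallyOfFiniteType f] [UniversallyOpen f] [Surjective f] :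
    ∃ (Z : Scheme.{u}) (g : Z ⟶ Y), IsFinite g ∧ Surjective g ∧ HasLifts f g := by
  classical
  have hfin := TopologicalSpace.NoetherianSpace.finite_irreducibleComponents (α := ↥Y)
  obtain ⟨Z, g, hg, hr, hl⟩ := exists_lifts_union f hfin.toFinset fun c hc =>
    ⟨isClosed_of_mem_irreducibleComponents c (hfin.mem_toFinset.1 hc), (hfin.mem_toFinset.1 hc).1⟩
  refine ⟨Z, g, hg, ⟨fun y => ?_⟩, hl⟩
  have hy : y ∈ ⋃ c ∈ hfin.toFinset, c :=
    Set.mem_biUnion (hfin.mem_toFinset.2 (irreducibleComponent_mem_irreducibleComponents y))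
      mem_irreducibleComponent
  exact hr.ge hy

theorem exists_finite_surjective_sections {X Y : Scheme.{u}} [IsNoetherian Y] (f : X ⟶ Y)
    [LocallyOfFiniteType f] [UniversallyOpen f] [Surjective f] :
    ∃ (Y' : Scheme.{u}) (g : Y' ⟶ Y), IsFinite g ∧ Surjective g ∧
      ∀ y' : Y', ∃ U : Y'.Opens, y' ∈ U ∧
        ∃ s : (↑U : Scheme.{u}) ⟶ pullback f g, s ≫ pullback.snd f g = U.ι := by
  obtain ⟨Z, g, hg, hs, hl⟩ := exists_finite_surjective_lifts f
  refine ⟨Z, g, hg, hs, fun z => ?_⟩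
  obtain ⟨U, hz, s, hsf⟩ := hl z
  exact ⟨U, hz, pullback.lift s U.ι hsf, pullback.lift_snd _ _ _⟩

end Groth.Agent.EGA43.Multisection
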