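import Groth.Agent.EGA43.Multisection.Global
import Groth.Agent.S0593

/-!
# Affineness descends along universally open surjective morphisms
-/

set_option autoImplicit false
set_option backward.isDefEq.respectTransparency false
set_option linter.style.haveILetI false

universe u

open CategoryTheory CategoryTheory.Limits AlgebraicGeometry TopologicalSpace

namespace Groth.Agent.EGA43.Multisection

/-- A property of morphisms stable under base change passes along local lifts. -/
theorem pullback_snd_of_lift (P : MorphismProperty Scheme.{u}) [P.IsStableUnderBaseChange] [P.RespectsIso]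
    {X Y Y' W : Scheme.{u}} (f : X ⟶ Y) (g : Y' ⟶ Y) (h : P (pullback.snd f g)) (σ : W ⟶ Y') (φ : W ⟶ Y)
    (hσ : σ ≫ g = φ) : P (pullback.snd f φ) := by
  subst hσ
  have h1 : P (pullback.snd (pullback.snd f g) σ) := MorphismProperty.pullback_snd _ _ h
  rw [← pullbackLeftPullbackSndIso_hom_snd f g σ] at h1
  exact (MorphismProperty.cancel_left_of_respectsIso P _ _).1 h1

theorem isAffineHom_of_baseChange {X Y Y' : Scheme.{u}} [IsLocallyNoetherian Y]
    (f : X ⟶ Y) (g : Y' ⟶ Y) [LocallyOfFiniteType g] [UniversallyOpen g] [Surjective g]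
    [IsAffineHom (pullback.snd f g)] : IsAffineHom f := by
  refine ⟨fun V hV => ?_⟩
  haveI : IsAffine (V : Scheme.{u}) := hV
  haveI : AlgebraicGeometry.IsNoetherian (V : Scheme.{u}) := ⟨⟩
  haveI : LocallyOfFiniteType (g ∣_ V) :=
    MorphismProperty.of_isPullback (isPullback_morphismRestrict g V).flip ‹LocallyOfFiniteType g›
  haveI : UniversallyOpen (g ∣_ V) :=
    MorphismProperty.of_isPullback (isPullback_morphismRestrict g V).flip ‹UniversallyOpen g›
  haveI : Surjective (g ∣_ V) :=
    MorphismProperty.of_isPullback (isPullback_morphismRestrict g V).flip ‹Surjective g›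
  obtain ⟨Z, h, hh, hs, hl⟩ := exists_finite_surjective_lifts (g ∣_ V)
  haveI := hh
  haveI := hs
  haveI : IsAffine Z := isAffine_of_isAffineHom h
  let φ : Z ⟶ Y := h ≫ V.ι
  haveI : IsAffineHom (pullback.snd f φ) := by
    choose U hU s hsg using hl
    refine IsZariskiLocalAtTarget.of_iSup_eq_top (P := @IsAffineHom) U
      (top_le_iff.1 fun z _ => Opens.mem_iSup.2 ⟨z, hU z⟩) fun z => ?_
    have h1 : IsAffineHom (pullback.snd f ((U z).ι ≫ φ)) :=
      pullback_snd_of_lift @IsAffineHom f g ‹_› (s z ≫ (g ⁻¹ᵁ V).ι) _ (by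
        rw [Category.assoc, ← morphismRestrict_ι, ← Category.assoc, hsg z, Category.assoc])
    have h2 : IsPullback ((pullback.snd f φ ⁻¹ᵁ U z).ι ≫ pullback.fst f φ) (pullback.snd f φ ∣_ U z) f
        ((U z).ι ≫ φ) :=
      (isPullback_morphismRestrict (pullback.snd f φ) (U z)).flip.paste_horiz (IsPullback.of_hasPullback f φ)
    rw [← h2.isoPullback_hom_snd]
    exact (MorphismProperty.cancel_left_of_respectsIso @IsAffineHom _ _).2 h1
  haveI : IsAffine (pullback f φ) := isAffine_of_isAffineHom (pullback.snd f φ)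
  let k : pullback f φ ⟶ (f ⁻¹ᵁ V : Scheme.{u}) := IsOpenImmersion.lift (f ⁻¹ᵁ V).ι (pullback.fst f φ) (by
    rw [Scheme.Opens.range_ι]
    rintro _ ⟨w, rfl⟩
    show f (pullback.fst f φ w) ∈ V
    rw [← Scheme.Hom.comp_apply, pullback.condition, ← Category.assoc, Scheme.Hom.comp_apply]
    exact ((pullback.snd f φ ≫ h) w).2)
  have hk : IsPullback k (pullback.snd f φ) (f ∣_ V) h := by
    refine IsPullback.of_right ?_ ?_ (isPullback_morphismRestrict f V).flip
    · simp only [k, IsOpenImmersion.lift_fac]
      exact IsPullback.of_hasPullback f φ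
    · rw [← cancel_mono V.ι]
      simp [k, φ, pullback.condition]
  haveI : IsFinite k := MorphismProperty.of_isPullback hk.flip hh
  haveI : Surjective k := MorphismProperty.of_isPullback hk.flip hs
  exact Groth.Agent.S0593.result _ _ k

end Groth.Agent.EGA43.Multisection
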