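import Groth.Agent.EGA43.Chevalley.Section
import Groth.Agent.EGA43.Chevalley.OpenDim
import Groth.Agent.EGA43.DimFormula.Dedekind
import Groth.Agent.EGA43.FiniteCrit.Limit
import Groth.Agent.H8ProCons.Image

/-!
# Universally open morphisms have quasi-finite multisections through every fibre
-/

set_option autoImplicit false
set_option backward.isDefEq.respectTransparency false
set_option linter.style.haveILetI false

universe u

open CategoryTheory CategoryTheory.Limits AlgebraicGeometry TopologicalSpace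

namespace Groth.Agent.EGA43.Multisection

open Groth.Agent

variable {X Y : Scheme.{u}}

/-- An open morphism of finite type has, through some point of each nonempty fibre, an irreducible
quasi-finite multisection over a given generisation. -/
theorem exists_multisection [IsLocallyNoetherian Y] (g : X ⟶ Y) [LocallyOfFiniteType g] [QuasiCompact g]
    (hopen : IsOpenMap g.base) (x : X) {η : Y} (hη : η ⤳ g x) :
    ∃ (T : Scheme.{u}) (i : T ⟶ X) (_ : IrreducibleSpace ↥T), IsImmersion i ∧ IsReduced T ∧
      (∃ t, g (i t) = g x) ∧ LocallyOfFiniteType (i ≫ g) ∧ LocallyQuasiFinite (i ≫ g) ∧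
      QuasiCompact (i ≫ g) ∧ g (i (genericPoint ↥T)) = η := by
  let S : Set X := {w | g w = g x ∧ ∀ v, v ⤳ w → g v = g x → v = w}
  have hS : S.Finite := FiniteCrit.finite_maximal_fibre g (g x)
  obtain ⟨m₀, -, hm₀, hm₀max⟩ := Chevalley.exists_maximal_in_fibre g x
  obtain ⟨m, hm, hmle⟩ := hS.exists_maximalFor
    (fun w => DimLib.trdegHom (g.residueFieldMap w).hom) S ⟨m₀, hm₀, hm₀max⟩
  have hmmax : ∀ w, w ⤳ m → g w = g m → w = m := fun w hw he => hm.2 w hw (he.trans hm.1)
  obtain ⟨z, hz, hzη, hd⟩ := Chevalley.exists_generization_trdegHom_le g m hmmax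
    (fun _ hy' => H8ProCons.exists_generization_of_isOpenAt g
      (fun U hU => hopen.image_mem_nhds hU) hy') (η := η) (hm.1.symm ▸ hη)
  obtain ⟨x₀, hx₀, hgx₀, hcl⟩ := DimFormula.exists_closed_in_fibre g m
  obtain ⟨T, i, hirr, hi, hred, ⟨t, ht⟩, h1, h2, h3, h4⟩ :=
    Chevalley.exists_section g (hz.trans hx₀) hcl fun x' _ hx'₀ he => by
      obtain ⟨m', hm', hm'f, hm'max⟩ := Chevalley.exists_maximal_in_fibre g x'
      have hx' : g x' = g x := he.trans (hgx₀.trans hm.1)
      have hm'S : m' ∈ S := ⟨hm'f.trans hx', fun v hv hvg => hm'max v hv (hvg.trans hx'.symm)⟩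
      refine ((Chevalley.trdegHom_le_of_specializes g hm' hm'f).trans ?_).trans hd
      by_contra hlt
      exact hlt (hmle hm'S (le_of_not_ge hlt))
  exact ⟨T, i, hirr, hi, hred, ⟨t, by rw [← hm.1, ← hgx₀, ← ht]⟩, h1, h2, h3, h4.trans hzη⟩

end Groth.Agent.EGA43.Multisection
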