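import Groth.Agent.EGA43.Multisection.Basic
import Groth.Agent.CAlgH3.MoriPrimes
import Mathlib

/-!
# Universally open morphisms over a Noetherian domain have sections on the absolute integral closure

EGA IV 14.5.10, local form.
-/

set_option autoImplicit false
set_option backward.isDefEq.respectTransparency false
set_option linter.style.haveILetI false

universe u

open CategoryTheory CategoryTheory.Limits AlgebraicGeometry TopologicalSpace Polynomial

namespace Groth.Agent.EGA43.Multisection

open Groth.Agent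

/-- The spectrum map of the structure map. -/
noncomputable abbrev toBase (A B : Type u) [CommRing A] [CommRing B] [Algebra A B] :
    Spec (CommRingCat.of B) ⟶ Spec (CommRingCat.of A) :=
  Spec.map (CommRingCat.ofHom (algebraMap A B))

/-- A conjugate of an element outside one prime avoids another prime having the same trace downstairs. -/
theorem exists_root_notMem {K Ω : Type u} [Field K] [Field Ω] [Algebra K Ω] [IsAlgClosed Ω]
    {O : Subring Ω} (P₁ P₂ : Ideal O) [P₁.IsPrime] [P₂.IsPrime] {x : O} (hint : IsIntegral K (x : Ω))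
    (hroots : ∀ y : Ω, aeval y (minpoly K (x : Ω)) = 0 → y ∈ O)
    (hcoeff : ∀ (c : K) (h : algebraMap K Ω c ∈ O), (⟨_, h⟩ : O) ∈ P₁ → (⟨_, h⟩ : O) ∈ P₂)
    (hx : x ∉ P₂) :
    ∃ (y : Ω) (hy : y ∈ O), aeval y (minpoly K (x : Ω)) = 0 ∧ (⟨y, hy⟩ : O) ∉ P₁ := by
  by_contra hcon
  push Not at hcon
  let q := (minpoly K (x : Ω)).map (algebraMap K Ω)
  have hmon : q.Monic := (minpoly.monic hint).map _
  have hsplit : q.Splits := IsAlgClosed.splits q
  have hrO : ∀ r ∈ q.roots, r ∈ O := fun r hr => hroots r (by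
    rw [aeval_def, ← Polynomial.eval_map]; exact (mem_roots'.1 hr).2)
  let l : Multiset O := q.roots.attach.map fun r => ⟨r.1, hrO r.1 r.2⟩
  let q' : O[X] := (l.map fun r => X - C r).prod
  have hq' : q'.map O.subtype = q := by
    rw [Polynomial.map_multiset_prod, Multiset.map_map]
    conv_rhs => rw [hsplit.eq_prod_roots_of_monic hmon]
    simp only [l, Multiset.map_map, Function.comp_def, Polynomial.map_sub, Polynomial.map_X, Polynomial.map_C]
    exact congrArg Multiset.prod (Multiset.attach_map_val' _ fun a : Ω => X - C a)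
  have hP₁ : q'.map (Ideal.Quotient.mk P₁) = X ^ Multiset.card l := by
    rw [Polynomial.map_multiset_prod, Multiset.map_map]
    have : ∀ r ∈ l, ((Polynomial.map (Ideal.Quotient.mk P₁)) ∘ fun r => X - C r) r = X := by
      intro r hr
      obtain ⟨⟨s, hs⟩, -, rfl⟩ := Multiset.mem_map.1 hr
      simp only [Function.comp_apply, Polynomial.map_sub, Polynomial.map_X, Polynomial.map_C]
      rw [Ideal.Quotient.eq_zero_iff_mem.2 (hcon s (hrO s hs) (by
        rw [aeval_def, ← Polynomial.eval_map]; exact (mem_roots'.1 hs).2)), map_zero, sub_zero]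
    rw [Multiset.map_congr rfl this, Multiset.map_const', Multiset.prod_replicate]
  have hco : ∀ i, i < Multiset.card l → q'.coeff i ∈ P₂ := by
    intro i hi
    have h1 : q'.coeff i ∈ P₁ := by
      rw [← Ideal.Quotient.eq_zero_iff_mem, ← Polynomial.coeff_map, hP₁, coeff_X_pow, if_neg hi.ne]
    have h2 : algebraMap K Ω ((minpoly K (x : Ω)).coeff i) = ((q'.coeff i : O) : Ω) := by
      rw [← Polynomial.coeff_map, show ((q'.coeff i : O) : Ω) = O.subtype (q'.coeff i) from rfl,
        ← Polynomial.coeff_map, hq']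
    have hmem : algebraMap K Ω ((minpoly K (x : Ω)).coeff i) ∈ O := h2 ▸ (q'.coeff i).2
    rw [show q'.coeff i = ⟨_, hmem⟩ from Subtype.ext h2.symm] at h1 ⊢
    exact hcoeff _ hmem h1
  have hP₂ : q'.map (Ideal.Quotient.mk P₂) = X ^ Multiset.card l := by
    have hmon' : q'.Monic := monic_multiset_prod_of_monic _ _ fun r _ => monic_X_sub_C r
    have hdeg : q'.natDegree = Multiset.card l := natDegree_multiset_prod_X_sub_C_eq_card l
    refine Polynomial.ext fun i => ?_
    rw [Polynomial.coeff_map, coeff_X_pow]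
    rcases lt_trichotomy i (Multiset.card l) with h | h | h
    · rw [if_neg h.ne, Ideal.Quotient.eq_zero_iff_mem]
      exact hco i h
    · rw [if_pos h, h, ← hdeg, hmon'.coeff_natDegree, map_one]
    · rw [if_neg h.ne', coeff_eq_zero_of_natDegree_lt (hdeg ▸ h), map_zero]
  have hx0 : q'.eval x = 0 := by
    have h1 : O.subtype (q'.eval x) = (q'.map O.subtype).eval (x : Ω) :=
      (Polynomial.eval_map_apply O.subtype x).symm
    rw [hq', Polynomial.eval_map, ← aeval_def, minpoly.aeval] at h1
    exact Subtype.ext h1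
  have h2 : Ideal.Quotient.mk P₂ x ^ Multiset.card l = 0 := by
    rw [← Polynomial.eval_X (x := Ideal.Quotient.mk P₂ x), ← Polynomial.eval_pow, ← hP₂,
      Polynomial.eval_map_apply, hx0, map_zero]
  exact hx (Ideal.Quotient.eq_zero_iff_mem.1 (IsReduced.eq_zero _ ⟨_, h2⟩))

/-- A map defined on a Zariski main theorem model extends to the original ring after inverting. -/
theorem exists_factor {C R B : Type u} [CommRing C] [CommRing R] [Algebra C R] [CommRing B]
    (S' : Subalgebra C R) (a : S') (hbij : Function.Bijective (Localization.awayMap S'.val.toRingHom a))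
    (t : S' →+* B) (b : B) (hb : t a = b) :
    ∃ ν : R →+* Localization.Away b, ∀ s : S', ν s = algebraMap B (Localization.Away b) (t s) := by
  have hu : IsUnit (((algebraMap B (Localization.Away b)).comp t) a) := by
    rw [RingHom.comp_apply, hb]
    exact IsLocalization.Away.algebraMap_isUnit b
  let θ : Localization.Away a →+* Localization.Away b := IsLocalization.Away.lift a hu
  let E₁ := RingEquiv.ofBijective _ hbij
  refine ⟨(θ.comp E₁.symm.toRingHom).comp (algebraMap R (Localization.Away (S'.val.toRingHom a))),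
    fun s => ?_⟩
  have h1 : E₁ (algebraMap S' (Localization.Away a) s) =
      algebraMap R (Localization.Away (S'.val.toRingHom a)) (S'.val s) := by
    show Localization.awayMap S'.val.toRingHom a (algebraMap S' _ s) = _
    exact IsLocalization.map_eq _ _
  show θ (E₁.symm (algebraMap R _ (S'.val s))) = _
  rw [← h1, E₁.symm_apply_apply]
  exact IsLocalization.Away.lift_eq a hu s

variable {A : Type u} [CommRing A] [IsDomain A] [IsNoetherianRing A]

set_option synthInstance.maxHeartbeats 200000 in
set_option maxHeartbeats 1000000 in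
/-- Near every prime of the absolute integral closure, a lift exists at a finite stage. -/
theorem exists_lift_at {X : Scheme.{u}} (f : X ⟶ Spec (CommRingCat.of A)) [LocallyOfFiniteType f]
    [UniversallyOpen f] [Surjective f] {Ω : Type u} [Field Ω] [Algebra A Ω] [FaithfulSMul A Ω]
    [IsAlgClosed Ω] [Algebra (FractionRing A) Ω] [IsScalarTower A (FractionRing A) Ω]
    [Algebra.IsAlgebraic (FractionRing A) Ω]
    (P : Ideal (integralClosure A Ω)) [P.IsPrime] :
    ∃ (B : Subalgebra A Ω) (hB : B ≤ integralClosure A Ω) (_ : B.FG) (b : B),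
      Subalgebra.inclusion hB b ∉ P ∧
      ∃ s : Spec (CommRingCat.of (Localization.Away b)) ⟶ X, s ≫ f = toBase A (Localization.Away b) := by
  classical
  let K := FractionRing A
  let N := integralClosure A K
  let O := integralClosure A Ω
  let ι : N →ₐ[A] O := ((IsScalarTower.toAlgHom A K Ω).comp N.val).codRestrict O fun x => IsIntegral.map (IsScalarTower.toAlgHom A K Ω) x.2
  let p : Ideal A := P.comap (algebraMap A O)
  let S : Set (Ideal N) := {Q | Q.IsPrime ∧ Q.comap (algebraMap A N) = p}
  have hS : S.Finite := CAlgH3.Mori.finite_primes_over A K p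
  -- the separating subalgebra
  have hsep : ∀ Q Q' : Ideal N, ∃ n : N, ¬ Q ≤ Q' → n ∈ Q ∧ n ∉ Q' := fun Q Q' => by
    by_cases h : Q ≤ Q'
    · exact ⟨0, fun h' => absurd h h'⟩
    · obtain ⟨n, hn, hn'⟩ := SetLike.not_le_iff_exists.1 h
      exact ⟨n, fun _ => ⟨hn, hn'⟩⟩
  choose sep hsep using hsep
  let E : Finset Ω :=
    (hS.toFinset ×ˢ hS.toFinset).image fun z => algebraMap K Ω (sep z.1 z.2 : K)
  let C : Subalgebra A Ω := Algebra.adjoin A (E : Set Ω)
  have hCO : C ≤ O := Algebra.adjoin_le fun c hc => by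
    obtain ⟨z, -, rfl⟩ := Finset.mem_image.1 hc
    exact (ι (sep z.1 z.2)).2
  have hCK : ∀ c ∈ C, ∃ k : K, algebraMap K Ω k = c := by
    intro c hc
    refine Algebra.adjoin_induction (fun w hw => ?_) (fun r => ?_) ?_ ?_ hc
    · obtain ⟨z, -, rfl⟩ := Finset.mem_image.1 hw
      exact ⟨_, rfl⟩
    · exact ⟨algebraMap A K r, (IsScalarTower.algebraMap_apply A K Ω r).symm⟩
    · rintro a b - - ⟨a', rfl⟩ ⟨b', rfl⟩
      exact ⟨a' + b', map_add _ _ _⟩
    · rintro a b - - ⟨a', rfl⟩ ⟨b', rfl⟩
      exact ⟨a' * b', map_mul _ _ _⟩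
  haveI : Algebra.FiniteType A C := (Subalgebra.fg_iff_finiteType C).1 ⟨E, rfl⟩
  haveI : IsNoetherianRing C := Algebra.FiniteType.isNoetherianRing A C
  let q₀ : Ideal C := P.comap (Subalgebra.inclusion hCO).toRingHom
  have hq₀p : q₀.comap (algebraMap A C) = p := by
    show (P.comap _).comap _ = P.comap _
    rw [Ideal.comap_comap]
    exact congrArg (fun φ => Ideal.comap φ P) (Subalgebra.inclusion hCO).comp_algebraMap
  -- separation
  have hSep : ∀ P' : Ideal O, P'.IsPrime → P'.comap (Subalgebra.inclusion hCO).toRingHom = q₀ →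
      P.comap ι.toRingHom ≤ P'.comap ι.toRingHom := by
    intro P' hP' he
    haveI := hP'
    by_contra hle
    have hmem : ∀ R : Ideal O, R.IsPrime → R.comap (algebraMap A O) = p → R.comap ι.toRingHom ∈ S := by
      intro R hR hRp
      haveI := hR
      refine ⟨inferInstance, ?_⟩
      rw [Ideal.comap_comap, show ι.toRingHom.comp (algebraMap A N) = algebraMap A O from ι.comp_algebraMap]
      exact hRp
    have hP'p : P'.comap (algebraMap A O) = p := by
      rw [← hq₀p, ← he, Ideal.comap_comap]
      exact congrArg (fun φ => Ideal.comap φ P') (Subalgebra.inclusion hCO).comp_algebraMap.symm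
    obtain ⟨hn, hn'⟩ := hsep _ _ hle
    let n := sep (P.comap ι.toRingHom) (P'.comap ι.toRingHom)
    have hnC : algebraMap K Ω (n : K) ∈ C := Algebra.subset_adjoin <| Finset.mem_image.2
      ⟨(_, _), Finset.mem_product.2 ⟨hS.mem_toFinset.2 (hmem P inferInstance rfl),
        hS.mem_toFinset.2 (hmem P' hP' hP'p)⟩, rfl⟩
    have hc : (⟨_, hnC⟩ : C) ∈ q₀ := hn
    rw [← he] at hc
    exact hn' hc
  -- the multisection
  let π := toBase A C
  let sC : pullback f π ⟶ Spec (CommRingCat.of C) := pullback.snd f π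
  haveI : UniversallyOpen sC := MorphismProperty.pullback_snd _ _ ‹_›
  haveI : Surjective sC := MorphismProperty.pullback_snd _ _ ‹_›
  haveI : LocallyOfFiniteType sC := MorphismProperty.pullback_snd _ _ ‹_›
  haveI : q₀.IsPrime := Ideal.comap_isPrime _ P
  let y₀ : Spec (CommRingCat.of C) := (⟨q₀, inferInstance⟩ : PrimeSpectrum C)
  let η : Spec (CommRingCat.of C) := (⟨⊥, Ideal.isPrime_bot⟩ : PrimeSpectrum C)
  obtain ⟨x, hx⟩ := sC.surjective y₀
  obtain ⟨W, hW, hxW, -⟩ := exists_isAffineOpen_mem_and_subset (x := x) (U := ⊤) trivial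
  haveI : IsAffine (W : Scheme.{u}) := hW
  let g := W.ι ≫ sC
  haveI : LocallyOfFiniteType g := inferInstance
  haveI : QuasiCompact g := inferInstance
  obtain ⟨T, i, _, hi, hred, ⟨t, ht⟩, hft, hqf, -, hgen⟩ := exists_multisection g g.isOpenMap
    (⟨x, hxW⟩ : (W : Scheme.{u})) (η := η) ((PrimeSpectrum.le_iff_specializes η _).1 bot_le)
  haveI := hred
  haveI : AlgebraicGeometry.IsIntegral T := isIntegral_of_irreducibleSpace_of_isReduced T
  obtain ⟨V, hV, htV, -⟩ := exists_isAffineOpen_mem_and_subset (x := t) (U := ⊤) trivial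
  let R : CommRingCat.{u} := Γ(T, V)
  haveI : Nonempty V := ⟨⟨t, htV⟩⟩
  haveI : IsDomain R := inferInstanceAs (IsDomain Γ(T, V))
  let h : Spec R ⟶ pullback f π := hV.fromSpec ≫ i ≫ W.ι
  obtain ⟨ψ, hψ⟩ : ∃ ψ : CommRingCat.of C ⟶ R, Spec.map ψ = hV.fromSpec ≫ i ≫ g :=
    ⟨Spec.preimage _, Spec.map_preimage _⟩
  haveI := hft
  haveI := hqf
  have hψft : ψ.hom.FiniteType := by
    rw [← HasRingHomProperty.Spec_iff (P := @LocallyOfFiniteType), hψ]; infer_instance
  have hψqf : ψ.hom.QuasiFinite := by
    rw [← HasRingHomProperty.Spec_iff (P := @LocallyQuasiFinite), hψ]; infer_instance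
  letI : Algebra C R := ψ.hom.toAlgebra
  haveI : Algebra.FiniteType C R := hψft
  haveI : Algebra.QuasiFinite C R := hψqf
  letI : Algebra A R := (ψ.hom.comp (algebraMap A C)).toAlgebra
  haveI : IsScalarTower A C R := IsScalarTower.of_algebraMap_eq fun _ => rfl
  obtain ⟨r, hr, hrt⟩ : ∃ r : Spec R, Spec.map ψ r = y₀ ∧ hV.fromSpec r = t := by
    obtain ⟨r, hr⟩ : t ∈ Set.range hV.fromSpec := by rw [hV.range_fromSpec]; exact htV
    refine ⟨r, ?_, hr⟩
    rw [hψ, Scheme.Hom.comp_apply, hr, Scheme.Hom.comp_apply, ht, Scheme.Hom.comp_apply]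
    exact hx
  have hrC : r.asIdeal.comap (algebraMap C R) = q₀ := congrArg PrimeSpectrum.asIdeal hr
  have hinj : Function.Injective (algebraMap C R) := by
    obtain ⟨γ, hγ⟩ : genericPoint T ∈ Set.range hV.fromSpec := by
      rw [hV.range_fromSpec]; exact (genericPoint_specializes t).mem_open V.isOpen htV
    have h1 : Spec.map ψ γ = η := by rw [hψ, Scheme.Hom.comp_apply, hγ]; exact hgen
    rw [RingHom.injective_iff_ker_eq_bot, ← le_bot_iff]
    intro c hc
    have h2 : γ.asIdeal.comap (algebraMap C R) = ⊥ := congrArg PrimeSpectrum.asIdeal h1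
    rw [← h2, Ideal.mem_comap, RingHom.mem_ker.1 hc]
    exact zero_mem _
  -- Zariski's main theorem
  obtain ⟨S', hS', a, har, hbij⟩ :=
    Algebra.QuasiFiniteAt.exists_fg_and_exists_notMem_and_awayMap_bijective (R := C) r.asIdeal
  haveI : Module.Finite C S' := ⟨(Submodule.fg_top _).mpr hS'⟩
  haveI : FaithfulSMul C S' := (faithfulSMul_iff_algebraMap_injective C S').2
    fun u v huv => hinj (congrArg Subtype.val huv)
  haveI : FaithfulSMul C Ω := (faithfulSMul_iff_algebraMap_injective C Ω).2 Subtype.val_injective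
  haveI : Algebra.IsIntegral C S' := inferInstance
  haveI : Algebra.IsAlgebraic C S' := Algebra.IsIntegral.isAlgebraic
  let e : S' →ₐ[C] Ω := IsAlgClosed.lift
  have he : Function.Injective e := by
    rw [injective_iff_map_eq_zero]
    intro s hs
    have h1 : (RingHom.ker e.toRingHom).comap (algebraMap C S') = ⊥ := by
      rw [← le_bot_iff]
      intro c hc
      have : e (algebraMap C S' c) = 0 := hc
      rw [e.commutes] at this
      exact Subtype.ext this
    have h2 := Ideal.eq_bot_of_comap_eq_bot h1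
    have h3 : s ∈ RingHom.ker e.toRingHom := hs
    rw [h2] at h3
    exact (Submodule.mem_bot _).1 h3
  have heO : ∀ (e' : S' →ₐ[C] Ω) (s : S'), e' s ∈ O := by
    intro e' s
    haveI : Algebra.IsIntegral A C := ⟨fun c =>
      (isIntegral_algHom_iff C.val Subtype.val_injective).1 (hCO c.2)⟩
    exact isIntegral_trans (A := C) _ ((Algebra.IsIntegral.isIntegral (R := C) s).map e')
  let eO : S' →+* O := e.toRingHom.codRestrict O.toSubring (heO e)
  -- a prime of `O` above `r`
  obtain ⟨P₂, hP₂, hP₂c⟩ : ∃ P₂ : Ideal O, P₂.IsPrime ∧ P₂.comap eO = r.asIdeal.comap S'.val.toRingHom := by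
    letI : Algebra S' O := eO.toAlgebra
    haveI : IsScalarTower A S' O := by
      refine IsScalarTower.of_algebraMap_eq fun c => Subtype.ext ?_
      show algebraMap A Ω c = e (algebraMap A S' c)
      rw [IsScalarTower.algebraMap_apply A C S', e.commutes, ← IsScalarTower.algebraMap_apply]
    haveI : Algebra.IsIntegral S' O := Algebra.IsIntegral.tower_top A
    haveI := Ideal.comap_isPrime S'.val.toRingHom r.asIdeal
    obtain ⟨P₂, -, hP₂, hc⟩ := Ideal.exists_ideal_over_prime_of_isIntegral (r.asIdeal.comap S'.val.toRingHom)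
      (⊥ : Ideal O) (by
        intro u hu
        have : u = 0 := he (by rw [map_zero]; exact congrArg Subtype.val ((Submodule.mem_bot O).1 hu))
        rw [this]; exact zero_mem _)
    exact ⟨P₂, hP₂, hc⟩
  haveI := hP₂
  have hP₂q : P₂.comap (Subalgebra.inclusion hCO).toRingHom = q₀ := by
    rw [← hrC]
    have h1 : (Subalgebra.inclusion hCO).toRingHom = eO.comp (algebraMap C S') :=
      RingHom.ext fun c => Subtype.ext (e.commutes c).symm
    rw [h1, ← Ideal.comap_comap, hP₂c, Ideal.comap_comap]
    rfl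
  haveI : IsAlgClosure K Ω := ⟨inferInstance, inferInstance⟩
  haveI : Normal K Ω := IsAlgClosure.normal K Ω
  have hintK : ∀ w : Ω, IsIntegral K w := fun w => (Algebra.IsAlgebraic.isAlgebraic w).isIntegral
  obtain ⟨y, hy, hy0, hyP⟩ := exists_root_notMem (K := K) (O := O.toSubring) P P₂
    (x := eO a) (hintK _) (fun w hw => by
      obtain ⟨σ, hσ⟩ := minpoly.exists_algEquiv_of_root' (Algebra.IsAlgebraic.isAlgebraic (e a)) hw
      rw [← hσ]
      exact IsIntegral.map (σ.toAlgHom.restrictScalars A) (heO e a))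
    (fun c hc hcP => by
      have hcN : IsIntegral A c :=
        (isIntegral_algHom_iff (IsScalarTower.toAlgHom A K Ω) (algebraMap K Ω).injective).1 hc
      exact hSep P₂ hP₂ hP₂q (x := ⟨c, hcN⟩) hcP)
    (fun hmem => har (hP₂c.le hmem))
  obtain ⟨σ, hσ⟩ := minpoly.exists_algEquiv_of_root' (Algebra.IsAlgebraic.isAlgebraic (e a)) hy0
  let e' : S' →ₐ[C] Ω :=
    { σ.toAlgHom.toRingHom.comp e.toRingHom with
      commutes' := fun c => by
        obtain ⟨k, hk⟩ := hCK c.1 c.2
        show σ (e (algebraMap C S' c)) = (c : Ω)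
        rw [e.commutes]
        show σ (c : Ω) = (c : Ω)
        rw [← hk, σ.commutes] }
  haveI : Algebra.FiniteType A S' := Algebra.FiniteType.trans (S := C) inferInstance inferInstance
  let B : Subalgebra A Ω := (e'.restrictScalars A).range
  have hB : B ≤ O := by rintro _ ⟨s, rfl⟩; exact heO e' s
  let b : B := ⟨e' a, a, rfl⟩
  have hBfg : B.FG := by
    rw [Subalgebra.fg_iff_finiteType]
    exact Algebra.FiniteType.of_surjective (e'.restrictScalars A).rangeRestrict
      (e'.restrictScalars A).rangeRestrict_surjective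
  refine ⟨B, hB, hBfg, b, fun hb => hyP ?_, ?_⟩
  · refine (show (⟨y, hy⟩ : O) = Subalgebra.inclusion hB b from Subtype.ext ?_) ▸ hb
    exact hσ.symm
  let t₁ : S' →+* B := (e'.restrictScalars A).rangeRestrict.toRingHom
  obtain ⟨ν, hν⟩ := exists_factor S' a hbij t₁ b rfl
  refine ⟨Spec.map (CommRingCat.ofHom ν) ≫ h ≫ pullback.fst f π, ?_⟩
  have hh : h ≫ pullback.snd f π = Spec.map ψ := by
    rw [hψ]
    simp [h, g, sC, Category.assoc]
  rw [Category.assoc, Category.assoc, pullback.condition, reassoc_of% hh]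
  simp only [π, toBase, ← Spec.map_comp]
  congr 1
  refine CommRingCat.hom_ext (RingHom.ext fun c => ?_)
  have h1 : ν (algebraMap C R (algebraMap A C c)) =
      algebraMap B (Localization.Away b) (algebraMap A B c) := by
    refine (hν (algebraMap C S' (algebraMap A C c))).trans (congrArg _ (Subtype.ext ?_))
    show e' (algebraMap C S' (algebraMap A C c)) = algebraMap A Ω c
    rw [e'.commutes, ← IsScalarTower.algebraMap_apply]
  exact h1.trans (IsScalarTower.algebraMap_apply A B (Localization.Away b) c).symm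

end Groth.Agent.EGA43.Multisection
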